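import Cfsg.Agent.Lib.Friend.Graph
import Cfsg.Agent.Lib.Invol.Classes
import Cfsg.Agent.Lib.Invol.Transfer2
import Cfsg.Prelude.Def_OddOrderLocal

/-!
# Abelian Sylow 3-subgroup with a small normalizer: the commuting graph of involutions is a
friendship graph
-/

set_option autoImplicit false

namespace Cfsg.Lib.Friend

open Subgroup Cfsg.Lib.Invol

variable {G : Type*} [Group G]

/-- the commuting graph on the involutions -/
def invGraph (G : Type*) [Group G] : SimpleGraph {x : G // orderOf x = 2} where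
  Adj a b := a ≠ b ∧ Commute a.1 b.1
  symm := ⟨fun _ _ h => ⟨h.1.symm, h.2.symm⟩⟩
  loopless := ⟨fun _ h => h.1 rfl⟩

theorem exists_central_inv [Finite G] (t : G) (ht : orderOf t = 2)
    (hE : ∀ a b : G, orderOf a = 2 → orderOf b = 2 → a ≠ b →
      ∃ z : G, orderOf z = 2 ∧ z ≠ a ∧ z ≠ b ∧ Commute a z ∧ Commute b z)
    (hU : ∀ a b z w : G, orderOf a = 2 → orderOf b = 2 → a ≠ b → orderOf z = 2 → orderOf w = 2 →
      z ≠ a → z ≠ b → w ≠ a → w ≠ b → Commute a z → Commute b z → Commute a w → Commute b w →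
      z = w) :
    ∃ z : G, orderOf z = 2 ∧ ∀ u : G, orderOf u = 2 → Commute z u := by
  classical
  have : Fintype {x : G // orderOf x = 2} := Fintype.ofFinite _
  have : Nonempty {x : G // orderOf x = 2} := ⟨⟨t, ht⟩⟩
  have hF : Friendship (invGraph G) := by
    intro a b hab
    rw [Fintype.card_eq_one_iff]
    have hab' : a.1 ≠ b.1 := fun h => hab (Subtype.ext h)
    obtain ⟨z, hz, hza, hzb, h1, h2⟩ := hE a.1 b.1 a.2 b.2 hab'
    refine ⟨⟨⟨z, hz⟩, ?_⟩, ?_⟩
    · rw [SimpleGraph.mem_commonNeighbors]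
      exact ⟨⟨fun h => hza (congrArg Subtype.val h).symm, h1⟩,
        ⟨fun h => hzb (congrArg Subtype.val h).symm, h2⟩⟩
    · rintro ⟨w, hw⟩
      rw [SimpleGraph.mem_commonNeighbors] at hw
      obtain ⟨⟨h3, h4⟩, h5, h6⟩ := hw
      apply Subtype.ext
      apply Subtype.ext
      exact hU a.1 b.1 w.1 z a.2 b.2 hab' w.2 hz (fun h => h3 (Subtype.ext h.symm))
        (fun h => h5 (Subtype.ext h.symm)) hza hzb h4 h6 h1 h2
  obtain ⟨z, hz⟩ := friendship_theorem hF
  refine ⟨z.1, z.2, fun u hu => ?_⟩
  by_cases h : z = ⟨u, hu⟩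
  · rw [h]
  · exact (hz ⟨u, hu⟩ h).2

theorem s4018 [Finite G]
    (P : Sylow 3 G) (hab : IsMulCommutative P)
    (hN : Nat.card (Subgroup.normalizer ((P : Subgroup G) : Set G)) = 4 * Nat.card P)
    (hC : Nat.card (Subgroup.centralizer (P : Set G)) = 2 * Nat.card P)
    (hTI : Cfsg.IsTISubset (Subgroup.centralizer (P : Set G) : Set G))
    (heven : ∀ H : Subgroup G, H ≠ ⊤ → 2 ∣ Nat.card H → Nat.card H ∣ 4 * Nat.card P) :
    ¬ IsSimpleGroup G := by
  intro hs
  have : Fact (Nat.Prime 3) := ⟨Nat.prime_three⟩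
  have := fact_two
  set C : Subgroup G := Subgroup.centralizer (P : Set G) with hCdef
  set N : Subgroup G := Subgroup.normalizer ((P : Subgroup G) : Set G) with hNdef
  set m := Nat.card P with hm
  have hm0 : 0 < m := Nat.card_pos
  obtain ⟨k, hk⟩ : ∃ k, m = 3 ^ k := IsPGroup.iff_card.1 P.isPGroup'
  have hmodd : Odd m := by rw [hk]; exact Odd.pow (by decide)
  have hG4 : 4 * m ≤ Nat.card G := by
    rw [← hN]; exact Nat.le_of_dvd Nat.card_pos (card_subgroup_dvd_card N)
  have hPC : (P : Subgroup G) ≤ C := by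
    intro x hx
    rw [hCdef, mem_centralizer_iff]
    intro y hy
    exact congrArg Subtype.val (hab.is_comm.comm (⟨y, hy⟩ : (P : Subgroup G)) ⟨x, hx⟩)
  have hCN : C ≤ N := centralizer_le_normalizer _
  have hCc : ∀ c ∈ C, ∀ x ∈ (P : Subgroup G), x * c = c * x := fun c hc x hx =>
    (mem_centralizer_iff.1 hc) x hx
  have hNP : ∀ n ∈ N, ∀ x ∈ (P : Subgroup G), n * x * n⁻¹ ∈ (P : Subgroup G) := fun n hn x hx =>
    (mem_normalizer_iff.1 hn x).1 hx
  have hNC : ∀ n ∈ N, ∀ c ∈ C, n * c * n⁻¹ ∈ C := by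
    intro n hn c hc
    rw [hCdef, mem_centralizer_iff]
    intro y hy
    have h1 := hCc c hc _ (hNP n⁻¹ (N.inv_mem hn) y hy)
    calc y * (n * c * n⁻¹) = n * (n⁻¹ * y * n⁻¹⁻¹ * c) * n⁻¹ := by group
      _ = n * (c * (n⁻¹ * y * n⁻¹⁻¹)) * n⁻¹ := by rw [h1]
      _ = n * c * n⁻¹ * y := by group
  have hmax : ∀ H : Subgroup G, H ≠ ⊤ → N ≤ H → H = N := by
    intro H hH hNH
    have h1 : Nat.card N ∣ Nat.card H := card_dvd_of_le hNH
    have h2 := heven H hH (Dvd.dvd.trans (by rw [hN]; exact Dvd.intro (2 * m) (by ring)) h1)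
    exact (eq_of_le_of_card_ge hNH (by rw [hN]; exact Nat.le_of_dvd (by omega) h2)).symm
  -- relative indices
  have hiPC : (P : Subgroup G).relIndex C = 2 := by
    have h1 := (((P : Subgroup G).subgroupOf C).card_mul_index)
    rw [Nat.card_congr (subgroupOfEquivOfLe hPC).toEquiv, hC] at h1
    change m * (P : Subgroup G).relIndex C = 2 * m at h1
    have : m * (P : Subgroup G).relIndex C = m * 2 := by rw [h1]; ring
    exact Nat.eq_of_mul_eq_mul_left hm0 this
  have hiCN : C.relIndex N = 2 := by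
    have h1 := ((C.subgroupOf N).card_mul_index)
    rw [Nat.card_congr (subgroupOfEquivOfLe hCN).toEquiv, hC, hN] at h1
    change 2 * m * C.relIndex N = 4 * m at h1
    have : 2 * m * C.relIndex N = 2 * m * 2 := by rw [h1]; ring
    exact Nat.eq_of_mul_eq_mul_left (by omega) this
  have idx2 : ∀ {A B : Subgroup G}, A.relIndex B = 2 → ∀ a ∈ B, ∀ b ∈ B, a ∉ A → b ∉ A →
      a * b ∈ A := by
    intro A B h a ha b hb ha' hb'
    have := (mul_mem_iff_of_index_two (H := A.subgroupOf B) h (a := ⟨a, ha⟩) (b := ⟨b, hb⟩)).2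
      (by simp [mem_subgroupOf, ha', hb'])
    simpa [mem_subgroupOf] using this
  have hPodd : ∀ x ∈ (P : Subgroup G), x * x = 1 → x = 1 := by
    intro x hx h
    by_contra h1
    have := odd_orderOf_of_mem (H := (P : Subgroup G)) hmodd hx
    rw [two_of_mul_self h h1] at this
    exact absurd this (by decide)
  obtain ⟨t, htC, ht⟩ := exists_two_mem_of_even (H := C) (by rw [hC]; exact even_two_mul m)
  have hnP : ∀ u, orderOf u = 2 → u ∉ (P : Subgroup G) := fun u hu h =>
    ne_one_of_two hu (hPodd u h (mul_self_of_two hu))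
  have huniq : ∀ u ∈ C, orderOf u = 2 → u = t := by
    intro u huC hu
    have h1 := idx2 hiPC u huC t htC (hnP u hu) (hnP t ht)
    have h2 := hCc t htC _ h1
    have h3 : u * t * (u * t) = 1 := by
      have h4 : u * t * t = u := by rw [mul_assoc, mul_self_of_two ht, mul_one]
      calc u * t * (u * t) = u * (t * (u * t)) := by group
        _ = u * (u * t * t) := by rw [h2]
        _ = 1 := by rw [h4, mul_self_of_two hu]
    have h5 := hPodd _ h1 h3
    calc u = u * t * t := by rw [mul_assoc, mul_self_of_two ht, mul_one]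
      _ = t := by rw [h5, one_mul]
  have hsq : ∀ c ∈ C, c * c ∈ (P : Subgroup G) := by
    intro c hc
    by_cases h : c ∈ (P : Subgroup G)
    · exact mul_mem h h
    · exact idx2 hiPC c hc c hc h h
  -- no central involutions
  have hnc : ∀ z : G, orderOf z = 2 → centralizer ({z} : Set G) ≠ ⊤ := by
    intro z hz h
    have hn : (zpowers z).Normal := ⟨fun x hx g => by
      obtain ⟨j, rfl⟩ := hx
      have hg : Commute g z := mem_cent.1 (h ▸ mem_top g)
      have : g * z ^ j * g⁻¹ = z ^ j := by rw [(hg.zpow_right j).eq]; group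
      change g * z ^ j * g⁻¹ ∈ _
      rw [this]; exact zpow_mem_zpowers z j⟩
    rcases hn.eq_bot_or_eq_top with h1 | h1
    · exact ne_one_of_two hz (zpowers_eq_bot.1 h1)
    · have h2 : Nat.card G = 2 := by
        rw [← card_top, ← h1, Nat.card_zpowers, hz]
      omega
  have hNt : N ≤ centralizer ({t} : Set G) := by
    intro n hn
    rw [mem_cent]
    have h1 := huniq _ (hNC n hn t htC) (by rw [Invol.orderOf_conj, ht])
    rw [Commute, SemiconjBy]
    calc n * t = n * t * n⁻¹ * n := by group
      _ = t * n := by rw [h1]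
  have hCt : centralizer ({t} : Set G) = N := hmax _ (hnc t ht) hNt
  have hCtop : C ≠ ⊤ := by
    intro h
    have h2 : Nat.card G = 2 * m := by rw [← card_top, ← h, hC]
    omega
  have hNorm : normalizer (C : Set G) = N := by
    apply hmax
    · intro h
      have hn : C.Normal := normalizer_eq_top_iff.1 h
      rcases hn.eq_bot_or_eq_top with h1 | h1
      · rw [h1, mem_bot] at htC
        exact ne_one_of_two ht htC
      · exact hCtop h1
    · intro n hn
      rw [mem_normalizer_iff]
      intro c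
      refine ⟨hNC n hn c, fun h => ?_⟩
      have := hNC n⁻¹ (N.inv_mem hn) _ h
      simpa [mul_assoc] using this
  have hTI' : ∀ g x : G, x ∈ C → x ≠ 1 → g * x * g⁻¹ ∈ C → Commute g t := by
    intro g x hx h1 hg
    rw [← mem_cent, hCt, ← hNorm]
    by_contra h
    exact h1 (hTI g h x hx hg)
  have hk0 : k ≠ 0 := by
    intro h
    rw [h, pow_zero] at hk
    have h1 : (P : Subgroup G) = ⊥ := card_eq_one.1 hk
    apply hCtop
    rw [eq_top_iff]
    intro g _
    rw [hCdef, mem_centralizer_iff]
    intro y hy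
    have : y ∈ (P : Subgroup G) := hy
    rw [h1, mem_bot] at this
    rw [this, one_mul, mul_one]
  -- all involutions are conjugate
  have hno2 : ∀ K : Subgroup G, K.index ≠ 2 := by
    intro K hK
    have hn := normal_of_index_eq_two hK
    rcases hn.eq_bot_or_eq_top with h1 | h1
    · rw [h1, index_bot] at hK; omega
    · rw [h1, index_top] at hK; omega
  have hconj : ∀ u : G, orderOf u = 2 → ∃ g : G, g * u * g⁻¹ = t := by
    intro u hu
    obtain ⟨S, hS⟩ := (isPGroup_zpowers_two ht).exists_le_sylow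
    obtain ⟨j, hj⟩ := IsPGroup.iff_card.1 S.isPGroup'
    have hSt : (S : Subgroup G) ≠ ⊤ := by
      intro h
      have h1 : m ∣ 2 ^ j := by
        rw [← hj, h, card_top]; exact card_subgroup_dvd_card (P : Subgroup G)
      have h2 : 3 ∣ 2 ^ j := Dvd.dvd.trans (by rw [hk]; exact dvd_pow_self 3 hk0) h1
      have := (Nat.prime_three.dvd_of_dvd_pow h2)
      omega
    have h4 : 2 ^ 2 ∣ Nat.card G := Dvd.dvd.trans (by rw [hN]; exact Dvd.intro m (by ring))
      (card_subgroup_dvd_card N)
    have h5 : 2 ^ 2 ∣ Nat.card (S : Subgroup G) := by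
      rw [S.card_eq_multiplicity]
      exact pow_dvd_pow 2 ((Nat.prime_two.pow_dvd_iff_le_factorization Nat.card_pos.ne').1 h4)
    have h6 := heven S hSt (Dvd.dvd.trans (by decide) h5)
    have h7 : Nat.card (S : Subgroup G) ∣ 4 := by
      refine Nat.Coprime.dvd_of_dvd_mul_right ?_ h6
      rw [hj, hk]
      exact Nat.Coprime.pow _ _ (by decide)
    have h8 : Nat.card (S : Subgroup G) = 4 := Nat.dvd_antisymm h7 h5
    have h9 : (zpowers t).relIndex S = 2 := by
      have h1 := (((zpowers t).subgroupOf S).card_mul_index)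
      rw [Nat.card_congr (subgroupOfEquivOfLe hS).toEquiv, Nat.card_zpowers, ht, h8] at h1
      change 2 * (zpowers t).relIndex S = 4 at h1
      omega
    obtain ⟨g, hg⟩ := thompson_transfer' hno2 (odd_index_sylow S) h9 hu
    exact ⟨g, eq_of_mem_zpowers hg (mem_zpowers t) (by rw [Invol.orderOf_conj, hu]) ht⟩
  -- two involutions centralizing an involution
  have hL : ∀ a b z g : G, orderOf a = 2 → orderOf b = 2 → g * z * g⁻¹ = t → z ≠ a → z ≠ b →
      Commute a z → Commute b z → g * (a * b) * g⁻¹ ∈ C := by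
    intro a b z g ha hb hz hza hzb h1 h2
    have key : ∀ a : G, orderOf a = 2 → z ≠ a → Commute a z →
        g * a * g⁻¹ ∈ N ∧ g * a * g⁻¹ ∉ C := by
      intro a ha hza h1
      refine ⟨?_, fun h => hza ?_⟩
      · rw [← hCt, mem_cent, ← hz]; exact commute_conj g h1
      · have := huniq _ h (by rw [Invol.orderOf_conj, ha])
        rw [← hz] at this
        simpa using this.symm
    have := idx2 hiCN _ (key a ha hza h1).1 _ (key b hb hzb h2).1 (key a ha hza h1).2
      (key b hb hzb h2).2
    have e : g * (a * b) * g⁻¹ = g * a * g⁻¹ * (g * b * g⁻¹) := by group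
    rwa [e]
  have hne : ∀ a b : G, orderOf a = 2 → orderOf b = 2 → a ≠ b → a * b ≠ 1 := by
    intro a b ha hb hab h
    apply hab
    calc a = a * b * b := by rw [mul_assoc, mul_self_of_two hb, mul_one]
      _ = b := by rw [h, one_mul]
  obtain ⟨z, hz, hzc⟩ := exists_central_inv t ht (by
    intro a b ha hb hab
    have ha' := mul_self_of_two ha
    have hb' := mul_self_of_two hb
    have hna := left_not_mem_zpowers ha hb
    rcases Nat.even_or_odd (orderOf (a * b)) with he | ho
    · obtain ⟨h1, h2, h3⟩ := exists_central_of_even ha' hb' he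
      have hmem : (a * b) ^ (orderOf (a * b) / 2) ∈ zpowers (a * b) := pow_mem (mem_zpowers _) _
      refine ⟨_, h1, fun h => hna (by rwa [h] at hmem), fun h => hna ?_, h2.symm, h3.symm⟩
      rw [h] at hmem
      have := mul_mem (mem_zpowers (a * b)) hmem
      rwa [mul_assoc, hb', mul_one] at this
    · have hr1 := hne a b ha hb hab
      have hla := left_inverts ha' hb'
      have hlb := right_inverts ha' hb'
      set r := a * b with hr
      have hH : normalizer (zpowers r : Set G) ≠ ⊤ := by
        intro h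
        have hn : (zpowers r).Normal := normalizer_eq_top_iff.1 h
        rcases hn.eq_bot_or_eq_top with h1 | h1
        · exact hr1 (zpowers_eq_bot.1 h1)
        · exact hna (h1 ▸ mem_top a)
      have haH : a ∈ normalizer (zpowers r : Set G) := by
        rw [mem_normalizer_iff]
        intro x
        have aux : ∀ x ∈ zpowers r, a * x * a⁻¹ ∈ zpowers r := by
          rintro x ⟨j, rfl⟩
          change a * r ^ j * a⁻¹ ∈ _
          rw [conj_zpow_of_inv hla]
          exact inv_mem (zpow_mem_zpowers r j)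
        refine ⟨aux x, fun h => ?_⟩
        have := aux _ h
        rwa [show a * (a * x * a⁻¹) * a⁻¹ = (a * a) * x * (a * a)⁻¹ by group, ha', one_mul, inv_one,
          mul_one] at this
      have h1 := heven _ hH (even_iff_two_dvd.1 (even_card_of_two_mem ha haH))
      have h2 : orderOf r ∣ 4 * m :=
        Dvd.dvd.trans (orderOf_dvd_natCard _ (le_normalizer (mem_zpowers r))) h1
      have h3 : orderOf r ∣ m := by
        refine Nat.Coprime.dvd_of_dvd_mul_left ?_ h2
        exact Nat.Coprime.pow_right 2 (Nat.coprime_two_right.2 ho)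
      have h4 : r ^ 3 ^ k = 1 := by rw [← hk]; exact orderOf_dvd_iff_pow_eq_one.1 h3
      obtain ⟨g, hg⟩ := exists_conj_mem_sylow P h4
      have hg1 : g * r * g⁻¹ ≠ 1 := fun h => hr1 (by simpa using h)
      have key : ∀ a : G, a * r * a⁻¹ = r⁻¹ → g⁻¹ * t * g ≠ a ∧ Commute a (g⁻¹ * t * g) := by
        intro a hla
        have e : g * a * g⁻¹ * (g * r * g⁻¹) * (g * a * g⁻¹)⁻¹ = (g * r * g⁻¹)⁻¹ := by
          calc _ = g * (a * r * a⁻¹) * g⁻¹ := by group
            _ = _ := by rw [hla]; group
        constructor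
        · intro h
          have e2 : g * a * g⁻¹ = t := by rw [← h]; group
          rw [e2, ← hCc t htC _ hg, mul_inv_cancel_right] at e
          apply hg1
          apply hPodd _ hg
          nth_rewrite 1 [e]
          exact inv_mul_cancel _
        · have := hTI' (g * a * g⁻¹) _ (hPC hg) hg1 (by rw [e]; exact inv_mem (hPC hg))
          have h5 := commute_conj g⁻¹ this
          simpa [mul_assoc] using h5
      exact ⟨g⁻¹ * t * g, by rw [Invol.orderOf_conj', ht], (key a hla).1, (key b hlb).1,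
        (key a hla).2, (key b hlb).2⟩) (by
    intro a b z w ha hb hab hz hw hza hzb hwa hwb h1 h2 h3 h4
    obtain ⟨g, hg⟩ := hconj z hz
    obtain ⟨h, hh⟩ := hconj w hw
    have e1 := hL a b z g ha hb hg hza hzb h1 h2
    have e2 := hL a b w h ha hb hh hwa hwb h3 h4
    have hr1 := hne a b ha hb hab
    have h5 := hTI' (h * g⁻¹) _ e1 (fun h => hr1 (by simpa using h))
      (by rwa [show h * g⁻¹ * (g * (a * b) * g⁻¹) * (h * g⁻¹)⁻¹ = h * (a * b) * h⁻¹ by group])
    have e3 : h * g⁻¹ * t * (h * g⁻¹)⁻¹ = t := by rw [h5.eq]; group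
    have e4 : h * z * h⁻¹ = h * w * h⁻¹ := by
      rw [hh, ← e3, ← hg]; group
    simpa using e4)
  have hcl : normalClosure ({t} : Set G) ≤ centralizer ({z} : Set G) := by
    rw [normalClosure, closure_le]
    intro x hx
    rw [Group.mem_conjugatesOfSet_iff] at hx
    obtain ⟨y, hy, hyx⟩ := hx
    rw [Set.mem_singleton_iff] at hy
    subst hy
    exact mem_cent.2 (hzc x (by rw [← orderOf_of_isConj hyx, ht])).symm
  rcases (normalClosure_normal (s := ({t} : Set G))).eq_bot_or_eq_top with h1 | h1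
  · have : t ∈ normalClosure ({t} : Set G) := subset_normalClosure rfl
    rw [h1, mem_bot] at this
    exact ne_one_of_two ht this
  · exact hnc z hz (top_le_iff.1 (h1 ▸ hcl))

end Cfsg.Lib.Friend
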